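import Groth.Prelude.Def_FEt
import Groth.Agent.Lib.FEtEq25.Cat
import Groth.Agent.Lib.FEtEq25.Points
import Groth.Agent.Lib.UnivSubm25.Graph
import Mathlib.AlgebraicGeometry.Artinian
import Mathlib.FieldTheory.IsSepClosed
import Mathlib.FieldTheory.PurelyInseparable.Basic

/-!
Finite étale covers of discrete schemes with separably closed residue fields
-/

set_option autoImplicit false
set_option linter.style.haveILetI false
set_option backward.isDefEq.respectTransparency false

universe u

open CategoryTheory CategoryTheory.Limits AlgebraicGeometry TopologicalSpace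

noncomputable section

namespace Groth.Agent.CurveConn25

/-- An algebraic extension of a separably closed field is separably closed. -/
theorem isSepClosed_of_isAlgebraic (k K : Type u) [Field k] [IsSepClosed k] [Field K] [Algebra k K]
    [Algebra.IsAlgebraic k K] : IsSepClosed K := by
  refine IsSepClosed.of_exists_root K fun p _ hirr hsep => ?_
  let L := AlgebraicClosure K
  haveI : Algebra.IsAlgebraic k L := Algebra.IsAlgebraic.trans k K L
  haveI : IsPurelyInseparable K L := IsPurelyInseparable.tower_top (K := L) k K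
  obtain ⟨a, ha⟩ := IsAlgClosed.exists_aeval_eq_zero L p
    (Polynomial.degree_pos_of_irreducible hirr).ne'
  obtain ⟨x, rfl⟩ := IsPurelyInseparable.inseparable (F := K) a
    (hsep.of_dvd (minpoly.dvd K a ha))
  refine ⟨x, (algebraMap K L).injective ?_⟩
  rw [map_zero, ← ha, Polynomial.aeval_algebraMap_apply_eq_algebraMap_eval]

/-- Residue fields at closed points of a scheme locally of finite type over a separably closed field
are separably closed. -/
theorem isSepClosed_residueField {k : Type u} [Field k] [IsSepClosed k] {Y : Scheme.{u}}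
    (a : Y ⟶ Spec (CommRingCat.of k)) [LocallyOfFiniteType a] (y : Y) (hy : IsClosed ({y} : Set Y)) :
    IsSepClosed (Y.residueField y) := by
  haveI : JacobsonSpace ↥(Spec (CommRingCat.of k)) :=
    inferInstanceAs (JacobsonSpace (PrimeSpectrum k))
  haveI := isClosed_singleton_iff_isClosedImmersion.mp hy
  let φ : CommRingCat.of k ⟶ Y.residueField y := Spec.preimage (Y.fromSpecResidueField y ≫ a)
  have hφ : Spec.map φ = Y.fromSpecResidueField y ≫ a := Spec.map_preimage _
  haveI : IsFinite (Spec.map φ) := by
    rw [hφ]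
    exact (isFinite_iff_locallyOfFiniteType_of_jacobsonSpace
      (f := Y.fromSpecResidueField y ≫ a)).mpr inferInstance
  have hf : φ.hom.Finite := (IsFinite.SpecMap_iff φ).1 inferInstance
  algebraize [φ.hom]
  haveI : Module.Finite k (Y.residueField y) := hf
  exact isSepClosed_of_isAlgebraic k _

/-- A geometric point at a given point. -/
def geomPt {D : Scheme.{u}} (z : D) :
    Spec (CommRingCat.of (AlgebraicClosure (D.residueField z))) ⟶ D :=
  Spec.map (CommRingCat.ofHom (algebraMap (D.residueField z) _)) ≫ D.fromSpecResidueField z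

theorem geomPt_apply {D : Scheme.{u}} (z : D)
    (x : Spec (CommRingCat.of (AlgebraicClosure (D.residueField z)))) : geomPt z x = z := by
  rw [geomPt, Scheme.Hom.comp_apply]
  exact Scheme.fromSpecResidueField_apply z _

/-- Residue field maps of étale morphisms over separably closed residue fields are bijective. -/
theorem residueFieldMap_bijective {E D : Scheme.{u}} (h : E ⟶ D) [Etale h] (e : E)
    (hd : IsSepClosed (D.residueField (h e))) : Function.Bijective (h.residueFieldMap e).hom := by
  letI : Algebra (D.residueField (h e)) (E.residueField e) := (h.residueFieldMap e).hom.toAlgebra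
  haveI : Algebra.IsSeparable (D.residueField (h e)) (E.residueField e) :=
    inferInstanceAs (Algebra.IsSeparable (D.residueField (h.base e)) (E.residueField e))
  exact IsSepClosed.algebraMap_bijective (D.residueField (h e)) (E.residueField e)

/-- An injective étale morphism to a scheme with separably closed residue fields is an open
immersion. -/
theorem isOpenImmersion_of_injective {E D : Scheme.{u}} (h : E ⟶ D) [Etale h]
    (hD : ∀ z : D, IsSepClosed (D.residueField z)) (hi : Function.Injective h) :
    IsOpenImmersion h := by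
  haveI : UniversallyInjective h := by
    have H := (tfae_universallyInjective h).out 0 2
    refine H.mpr ⟨hi, fun x => ?_⟩
    algebraize [(h.residueFieldMap x).hom]
    have hs := (residueFieldMap_bijective h x (hD _)).2
    exact { isIntegral := ⟨RingHom.isIntegral_of_surjective _ hs⟩
            inseparable' := fun y _ => hs y }
  exact UnivSubm25.isOpenImmersion_of_etale_univInj h

/-- Over a point with separably closed residue field the preimage is in bijection with the
geometric fibre. -/
theorem nonempty_preimage_equiv {D E : Scheme.{u}} (h : E ⟶ D) [IsFinite h] [Etale h] (z : D)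
    (hz : IsSepClosed (D.residueField z)) :
    Nonempty ({s : Spec (CommRingCat.of (AlgebraicClosure (D.residueField z))) ⟶ E //
      s ≫ h = geomPt z} ≃ ↥(h ⁻¹' {z})) := by
  let K := AlgebraicClosure (D.residueField z)
  let pt : Spec (CommRingCat.of K) := IsLocalRing.closedPoint K
  have hp : ∀ s : Spec (CommRingCat.of K) ⟶ E, s ≫ h = geomPt z → h (s pt) = z := fun s hs => by
    have h1 := congrArg (fun m : Spec (CommRingCat.of K) ⟶ D => m pt) hs
    simp only [Scheme.Hom.comp_apply] at h1
    exact h1.trans (geomPt_apply z _)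
  let g : {s : Spec (CommRingCat.of K) ⟶ E // s ≫ h = geomPt z} → ↥(h ⁻¹' {z}) :=
    fun s => ⟨s.1 pt, hp s.1 s.2⟩
  refine ⟨Equiv.ofBijective g ⟨fun s t hst => Subtype.ext ?_, fun e => ?_⟩⟩
  · have hst' : s.1 pt = t.1 pt := congrArg Subtype.val hst
    apply (Scheme.SpecToEquivOfField K E).injective
    rw [Scheme.SpecToEquivOfField_eq_iff]
    refine ⟨hst', ?_⟩
    have hz' : IsSepClosed (D.residueField (h (s.1 pt))) := (hp s.1 s.2).symm ▸ hz
    haveI : Epi (h.residueFieldMap (s.1 pt)) :=
      ConcreteCategory.epi_of_surjective _ (residueFieldMap_bijective h (s.1 pt) hz').2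
    rw [← cancel_epi (h.residueFieldMap (s.1 pt))]
    have key : Scheme.SpecToEquivOfField K D (s.1 ≫ h) =
        Scheme.SpecToEquivOfField K D (t.1 ≫ h) := by rw [s.2, t.2]
    rw [Scheme.SpecToEquivOfField_eq_iff] at key
    obtain ⟨e', he'⟩ := key
    simp only [Scheme.SpecToEquivOfField_apply_snd, Scheme.descResidueField_stalkClosedPointTo_comp]
      at he' ⊢
    rw [he', Scheme.Hom.residueFieldMap_congr'_assoc]
    rfl
  · obtain ⟨s, hs, hs'⟩ := FEtEq25.exists_fiber_point (geomPt z) h e.1
      (e.2.trans (geomPt_apply z _).symm)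
    exact ⟨⟨s, hs⟩, Subtype.ext hs'⟩

/-- A locally noetherian scheme all whose points are closed is discrete. -/
theorem discreteTopology_of_isClosed {D : Scheme.{u}} [IsLocallyNoetherian D]
    (h : ∀ z : D, IsClosed ({z} : Set D)) : DiscreteTopology D := by
  have hdim : topologicalKrullDim D ≤ 0 := by
    refine Order.krullDim_nonpos_iff_forall_isMax.2 fun S T hST => ?_
    obtain ⟨t, ht⟩ := QuasiSober.sober T.isIrreducible T.isClosed
    have hT : (T : Set D) = {t} := by rw [← ht, (h t).closure_eq]
    obtain ⟨s, hs⟩ := S.isIrreducible.nonempty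
    have hst : s = t := by
      have := hST hs
      rwa [← SetLike.mem_coe, hT] at this
    intro x hx
    rw [← SetLike.mem_coe, hT] at hx
    obtain rfl : x = t := hx
    exact hst ▸ hs
  haveI := IsLocallyArtinian.of_topologicalKrullDim_le_zero hdim
  infer_instance

/-- The open subscheme on one point. -/
def singletonOpen {E : Scheme.{u}} [DiscreteTopology E] (e : E) : E.Opens :=
  ⟨{e}, isOpen_discrete _⟩

theorem singletonOpen_apply {E : Scheme.{u}} [DiscreteTopology E] {e : E}
    (x : (singletonOpen e : Scheme.{u})) : (singletonOpen e).ι x = e := by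
  have hx : x.1 ∈ singletonOpen e := x.2
  exact hx

theorem isOpenImmersion_singleton {D E : Scheme.{u}} [DiscreteTopology E]
    (hD : ∀ z : D, IsSepClosed (D.residueField z)) (h : E ⟶ D) [Etale h] (e : E) :
    IsOpenImmersion ((singletonOpen e).ι ≫ h) := by
  have : Subsingleton ↥(singletonOpen e).toScheme :=
    ⟨fun x y => (singletonOpen e).ι.injective
      ((singletonOpen_apply x).trans (singletonOpen_apply y).symm)⟩
  exact isOpenImmersion_of_injective _ hD (Function.injective_of_subsingleton _)

theorem eq_of_apply_eq {D F T : Scheme.{u}} [DiscreteTopology F]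
    (hD : ∀ z : D, IsSepClosed (D.residueField z)) (hF : F ⟶ D) [Etale hF]
    (a b : T ⟶ F) (hab : a ≫ hF = b ≫ hF) (p : F) (ha : ∀ x, a x = p) (hb : ∀ x, b x = p) :
    a = b := by
  have hr : ∀ c : T ⟶ F, (∀ x, c x = p) → Set.range c ⊆ Set.range (singletonOpen p).ι :=
    fun c hc => by
    rintro _ ⟨x, rfl⟩
    rw [Scheme.Opens.range_ι]
    exact hc x
  have := isOpenImmersion_singleton hD hF p
  rw [← IsOpenImmersion.lift_fac (singletonOpen p).ι a (hr a ha),
    ← IsOpenImmersion.lift_fac (singletonOpen p).ι b (hr b hb)]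
  congr 1
  rw [← cancel_mono ((singletonOpen p).ι ≫ hF), IsOpenImmersion.lift_fac_assoc,
    IsOpenImmersion.lift_fac_assoc]
  exact hab

theorem hom_ext_points {D E F : Scheme.{u}} [DiscreteTopology E] [DiscreteTopology F]
    (hD : ∀ z : D, IsSepClosed (D.residueField z)) (hF : F ⟶ D) [Etale hF] (a b : E ⟶ F)
    (hab : a ≫ hF = b ≫ hF) (h : ∀ e, a e = b e) : a = b := by
  refine Scheme.hom_ext_of_forall _ _ fun e => ⟨singletonOpen e, rfl, ?_⟩
  refine eq_of_apply_eq hD hF _ _ ?_ (a e) (fun x => ?_) (fun x => ?_)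
  · rw [Category.assoc, Category.assoc, hab]
  · rw [Scheme.Hom.comp_apply, singletonOpen_apply]
  · rw [Scheme.Hom.comp_apply, singletonOpen_apply, h]

theorem exists_hom {D E F : Scheme.{u}} [DiscreteTopology E] [DiscreteTopology F]
    (hD : ∀ z : D, IsSepClosed (D.residueField z)) (hE : E ⟶ D) (hF : F ⟶ D) [Etale hE] [Etale hF]
    (s : E → F) (hs : ∀ e, hF (s e) = hE e) :
    ∃ φ : E ⟶ F, φ ≫ hF = hE ∧ ∀ e, φ e = s e := by
  let 𝒰 := E.openCoverOfIsOpenCover singletonOpen
    (TopologicalSpace.IsOpenCover.mk (eq_top_iff.2 fun e _ => Opens.mem_iSup.2 ⟨e, rfl⟩))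
  have := fun e => isOpenImmersion_singleton hD hF (s e)
  have hr : ∀ e : E, Set.range ((singletonOpen e).ι ≫ hE) ⊆
      Set.range ((singletonOpen (s e)).ι ≫ hF) := fun e => by
    rintro _ ⟨x, rfl⟩
    refine ⟨⟨s e, rfl⟩, ?_⟩
    rw [Scheme.Hom.comp_apply, Scheme.Hom.comp_apply, singletonOpen_apply, singletonOpen_apply, hs]
  let φ : ∀ e : E, (singletonOpen e : Scheme.{u}) ⟶ F := fun e =>
    IsOpenImmersion.lift ((singletonOpen (s e)).ι ≫ hF) ((singletonOpen e).ι ≫ hE) (hr e) ≫
      (singletonOpen (s e)).ι
  have hφ : ∀ e, φ e ≫ hF = (singletonOpen e).ι ≫ hE := fun e => by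
    simp only [φ]
    rw [Category.assoc, IsOpenImmersion.lift_fac]
  have hφp : ∀ e x, φ e x = s e := fun e x => by
    simp only [φ]
    rw [Scheme.Hom.comp_apply, singletonOpen_apply]
  have hc : ∀ e e' : E, pullback.fst (singletonOpen e).ι (singletonOpen e').ι ≫ φ e =
      pullback.snd (singletonOpen e).ι (singletonOpen e').ι ≫ φ e' := fun e e' => by
    refine eq_of_apply_eq hD hF _ _ ?_ (s e) (fun x => ?_) (fun x => ?_)
    · refine (Category.assoc _ _ _).trans ?_
      refine (congrArg (_ ≫ ·) (hφ e)).trans ?_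
      rw [Category.assoc, hφ, pullback.condition_assoc]
    · rw [Scheme.Hom.comp_apply, hφp]
    · rw [Scheme.Hom.comp_apply, hφp]
      congr 1
      have h1 := congrArg (fun m : _ ⟶ E => m x)
        (pullback.condition (f := (singletonOpen e).ι) (g := (singletonOpen e').ι))
      simp only [Scheme.Hom.comp_apply, singletonOpen_apply] at h1
      exact h1.symm
  let ψ : E ⟶ F := 𝒰.glueMorphisms φ hc
  have hψ : ∀ e, (singletonOpen e).ι ≫ ψ = φ e := fun e => 𝒰.ι_glueMorphisms φ hc e
  refine ⟨ψ, Scheme.hom_ext_of_forall _ _ fun e =>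
    ⟨singletonOpen e, rfl, by rw [← Category.assoc, hψ, hφ]⟩, fun e => ?_⟩
  have h1 := congrArg (fun m : (singletonOpen e : Scheme.{u}) ⟶ F => m ⟨e, rfl⟩) (hψ e)
  simp only [Scheme.Hom.comp_apply, hφp, singletonOpen_apply] at h1
  exact h1

/-- Finite étale covers of an artinian scheme with separably closed residue fields are determined by
the cardinalities of their fibres. -/
theorem nonempty_iso_of_equiv {D : Scheme.{u}} [IsLocallyArtinian D]
    (hD : ∀ z : D, IsSepClosed (D.residueField z)) (E F : FEt.Cat D)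
    (σ : ∀ z : D, ↥(E.hom ⁻¹' {z}) ≃ ↥(F.hom ⁻¹' {z})) : Nonempty (E ≅ F) := by
  let hE : E.left ⟶ D := E.hom
  let hF : F.left ⟶ D := F.hom
  haveI : IsFinite hE := E.prop.1
  haveI : Etale hE := E.prop.2
  haveI : IsFinite hF := F.prop.1
  haveI : Etale hF := F.prop.2
  have : IsLocallyArtinian E.left := .of_locallyQuasiFinite hE
  haveI : IsLocallyArtinian F.left := .of_locallyQuasiFinite hF
  let σ' : ∀ z : D, {e : E.left // hE e = z} ≃ {e : F.left // hF e = z} := σ
  let s : E.left ≃ F.left := (Equiv.sigmaFiberEquiv (fun e => hE e)).symm.trans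
    ((Equiv.sigmaCongrRight σ').trans (Equiv.sigmaFiberEquiv (fun e => hF e)))
  have hs : ∀ e, hF (s e) = hE e := fun e => (σ' (hE e) ⟨e, rfl⟩).2
  have hs' : ∀ e, hE (s.symm e) = hF e := fun e => by
    rw [← hs (s.symm e), s.apply_symm_apply]
  obtain ⟨φ, hφw, hφ⟩ := exists_hom hD hE hF s hs
  obtain ⟨ψ, hψw, hψ⟩ := exists_hom hD hF hE s.symm hs'
  have h1 : φ ≫ ψ = 𝟙 _ := hom_ext_points hD hE _ _
    (by rw [Category.assoc, hψw, hφw, Category.id_comp]) fun e => by
      rw [Scheme.Hom.comp_apply, hφ, hψ, s.symm_apply_apply]; rfl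
  have h2 : ψ ≫ φ = 𝟙 _ := hom_ext_points hD hF _ _
    (by rw [Category.assoc, hφw, hψw, Category.id_comp]) fun e => by
      rw [Scheme.Hom.comp_apply, hψ, hφ, s.apply_symm_apply]; rfl
  exact ⟨MorphismProperty.Over.isoMk ⟨φ, ψ, h1, h2⟩ hφw⟩

end Groth.Agent.CurveConn25
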