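import Groth.Prelude.Def_FEt
import Groth.Agent.Lib.FEtEq25.Cat
import Mathlib.AlgebraicGeometry.AffineSpace
import Mathlib.RingTheory.Etale.Pi

/-!
The trivial finite étale cover of given degree
-/

set_option autoImplicit false
set_option linter.style.haveILetI false
set_option backward.isDefEq.respectTransparency false

universe u

open CategoryTheory CategoryTheory.Limits AlgebraicGeometry

noncomputable section

namespace Groth.Agent.CurveConn25

/-- The trivial degree `d` cover of the terminal scheme. -/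
def trivialBase (d : ℕ) : FEt.Cat (Spec (CommRingCat.of (ULift.{u} ℤ))) :=
  MorphismProperty.Over.mk ⊤
    (Spec.map (CommRingCat.ofHom (algebraMap (ULift.{u} ℤ) (Fin d → ULift.{u} ℤ))))
    ⟨(IsFinite.SpecMap_iff _).2 (RingHom.finite_algebraMap.2 inferInstance),
      (HasRingHomProperty.Spec_iff (P := @Etale)).2 (RingHom.etale_algebraMap.2 inferInstance)⟩

theorem bijective_eval (d : ℕ) (Ω : Type u) [Field Ω] :
    Function.Bijective fun j : Fin d =>
      ((Int.castRingHom Ω).comp (ULift.ringEquiv.toRingHom)).comp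
        (Pi.evalRingHom (fun _ => ULift.{u} ℤ) j) := by
  classical
  let c : ULift.{u} ℤ →+* Ω := (Int.castRingHom Ω).comp (ULift.ringEquiv.toRingHom)
  have hc : ∀ f g : ULift.{u} ℤ →+* Ω, f = g := fun f g => by
    ext ⟨n⟩
    exact congrArg (fun r : ℤ →+* Ω => r n) (RingHom.ext_int
      (f.comp ULift.ringEquiv.symm.toRingHom) (g.comp ULift.ringEquiv.symm.toRingHom))
  constructor
  · intro i j h
    by_contra hij
    have h1 := congrArg (fun φ : (Fin d → ULift.{u} ℤ) →+* Ω => φ (Pi.single i 1)) h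
    simp only [RingHom.comp_apply, Pi.evalRingHom_apply, Pi.single_eq_same,
      Pi.single_eq_of_ne (Ne.symm hij)] at h1
    simp at h1
  · intro φ
    have hsum : (∑ i : Fin d, φ (Pi.single i 1)) = 1 := by
      rw [← map_sum, show (∑ i : Fin d, Pi.single i (1 : ULift.{u} ℤ)) = 1 from
        Finset.univ_sum_single (1 : Fin d → ULift.{u} ℤ), map_one]
    obtain ⟨j, hj⟩ : ∃ j, φ (Pi.single j 1) ≠ 0 := by
      by_contra h
      push Not at h
      simp [h] at hsum
    refine ⟨j, RingHom.ext fun x => ?_⟩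
    have h1 : x * Pi.single j 1 =
        (algebraMap (ULift.{u} ℤ) (Fin d → ULift.{u} ℤ) (x j)) * Pi.single j 1 := by
      funext i
      rcases eq_or_ne i j with rfl | hij
      · simp only [Pi.mul_apply, Pi.single_eq_same, mul_one]
        exact rfl
      · simp [Pi.single_eq_of_ne hij]
    have h2 := congrArg φ h1
    rw [map_mul, map_mul] at h2
    rw [mul_right_cancel₀ hj h2]
    exact congrArg (fun f : ULift.{u} ℤ →+* Ω => f (x j))
      (hc c (φ.comp (algebraMap (ULift.{u} ℤ) (Fin d → ULift.{u} ℤ))))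

/-- The fibres of the trivial degree `d` cover have `d` elements. -/
theorem nonempty_fiber_trivialBase (d : ℕ) {Ω : Type u} [Field Ω]
    (ξ : Spec (CommRingCat.of Ω) ⟶ Spec (CommRingCat.of (ULift.{u} ℤ))) :
    Nonempty (FEt.fiberObj ξ (trivialBase d) ≃ Fin d) :=
  ⟨(Equiv.subtypeUnivEquiv fun _ => specULiftZIsTerminal.hom_ext _ _).trans <|
    Spec.homEquiv.trans <| ConcreteCategory.homEquiv.trans
      (Equiv.ofBijective _ (bijective_eval d Ω)).symm⟩

/-- The trivial degree `d` cover of a scheme. -/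
def trivialCover (J : Scheme.{u}) (d : ℕ) : FEt.Cat J :=
  (FEt.restrict (specULiftZIsTerminal.from J)).obj (trivialBase d)

theorem nonempty_fiber_trivialCover (J : Scheme.{u}) (d : ℕ) {Ω : Type u} [Field Ω]
    (ξ : Spec (CommRingCat.of Ω) ⟶ J) :
    Nonempty (FEt.fiberObj ξ (trivialCover J d) ≃ Fin d) := by
  obtain ⟨e⟩ := nonempty_fiber_trivialBase d (ξ ≫ specULiftZIsTerminal.from J)
  exact ⟨((FEtEq25.restrictFiberIso _ ξ).app (trivialBase d)).toEquiv.trans e⟩

end Groth.Agent.CurveConn25
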