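import Groth.Agent.Lib.CurveConn25.Discrete
import Groth.Agent.Lib.CurveConn25.Trivial
import Groth.Agent.Lib.UnionPush13.Basic
import Groth.Agent.Lib.AlgSpDecent.FiniteMin
import Groth.Agent.S0238
import Groth.Agent.S0296
import Groth.Agent.S1186

/-!
Finite étale covers of a connected closed subscheme of a curve extend
-/

set_option autoImplicit false
set_option linter.style.haveILetI false
set_option backward.isDefEq.respectTransparency false

universe u

open CategoryTheory CategoryTheory.Limits AlgebraicGeometry TopologicalSpace Scheme.IdealSheafData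

noncomputable section

namespace Groth.Agent.CurveConn25

/-- A point in the closure of an open set and outside it is closed, in dimension at most one. -/
theorem isClosed_of_mem_frontier {Z : Scheme.{u}} [IsLocallyNoetherian Z]
    (hdim : topologicalKrullDim Z ≤ 1) (U : Z.Opens) (x : Z) (hx : x ∈ closure (U : Set Z))
    (hxU : x ∉ U) : IsClosed ({x} : Set Z) := by
  rw [← closure_eq_iff_isClosed]
  refine Set.Subset.antisymm (fun y hy => ?_) subset_closure
  by_contra hne
  have hxr : x ∈ closure (Set.range U.ι) := by rwa [Scheme.Opens.range_ι]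
  obtain ⟨w, hw⟩ := AlgSpDecent.exists_specializes_of_mem_closure_range U.ι hxr
  have hu : U.ι w ≠ x := fun h => hxU (h ▸ (show U.ι w ∈ U from w.2))
  let cl : Z → IrreducibleCloseds Z := fun p =>
    ⟨closure {p}, isIrreducible_singleton.closure, isClosed_closure⟩
  have hlt : ∀ p q : Z, p ⤳ q → p ≠ q → cl q < cl p := fun p q h hpq =>
    lt_of_le_of_ne (show closure {q} ⊆ closure {p} from specializes_iff_closure_subset.1 h)
      fun he => hpq (specializes_iff_closure_subset.2
        (show closure {p} ⊆ closure {q} from le_of_eq (congrArg (fun s : IrreducibleCloseds Z => (s : Set Z)) he.symm))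
        |>.antisymm h).eq.symm
  let c : LTSeries (IrreducibleCloseds Z) :=
    { length := 2
      toFun := ![cl y, cl x, cl (U.ι w)]
      step := fun i => by
        fin_cases i
        · exact hlt x y (specializes_iff_mem_closure.2 hy) (fun h => hne h.symm)
        · exact hlt _ x hw hu }
  have h2 := (Order.LTSeries.length_le_krullDim c).trans hdim
  have h3 : ((2 : ℕ) : WithBot ℕ∞) ≤ ((1 : ℕ) : WithBot ℕ∞) := by exact_mod_cast h2
  rw [Nat.cast_le] at h3
  omega

theorem exists_restrict_iso {k : Type u} [Field k] [IsSepClosed k] {Z : Scheme.{u}}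
    (a : Z ⟶ Spec (CommRingCat.of k)) [LocallyOfFiniteType a] (hdim : topologicalKrullDim Z ≤ 1)
    (I : Z.IdealSheafData) [ConnectedSpace I.subscheme] (V : FEt.Cat I.subscheme) :
    ∃ W : FEt.Cat Z, Nonempty ((FEt.restrict I.subschemeι).obj W ≅ V) := by
  haveI : IsLocallyNoetherian Z := LocallyOfFiniteType.isLocallyNoetherian a
  let U : Z.Opens := ⟨(I.support : Set Z)ᶜ, I.support.isClosed.isOpen_compl⟩
  let J : Z.IdealSheafData := vanishingIdeal ⟨closure (U : Set Z), isClosed_closure⟩
  have hJ : (J.support : Set Z) = closure (U : Set Z) := coe_support_vanishingIdeal _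
  let jI := inclusion (le_sup_left : I ≤ I ⊔ J)
  let jJ := inclusion (le_sup_right : J ≤ I ⊔ J)
  haveI : IsLocallyNoetherian (I ⊔ J).subscheme :=
    LocallyOfFiniteType.isLocallyNoetherian (I ⊔ J).subschemeι
  have hclosed : ∀ z : (I ⊔ J).subscheme, IsClosed ({z} : Set (I ⊔ J).subscheme) := fun z => by
    have h1 : (I ⊔ J).subschemeι z ∈ I.support := by
      rw [← SetLike.mem_coe, ← range_subschemeι]
      exact ⟨jI z, by rw [← Scheme.Hom.comp_apply, inclusion_subschemeι]⟩
    have h2 : (I ⊔ J).subschemeι z ∈ closure (U : Set Z) := by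
      rw [← hJ, ← range_subschemeι]
      exact ⟨jJ z, by rw [← Scheme.Hom.comp_apply, inclusion_subschemeι]⟩
    have := (isClosed_of_mem_frontier hdim U _ h2 fun h => h h1).preimage
      (I ⊔ J).subschemeι.continuous
    convert! this
    ext w
    simp [(I ⊔ J).subschemeι.injective.eq_iff]
  haveI : DiscreteTopology (I ⊔ J).subscheme := discreteTopology_of_isClosed hclosed
  haveI : IsLocallyArtinian (I ⊔ J).subscheme := .of_isLocallyNoetherian_of_discreteTopology
  have hsc : ∀ z : (I ⊔ J).subscheme, IsSepClosed ((I ⊔ J).subscheme.residueField z) :=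
    fun z => isSepClosed_residueField ((I ⊔ J).subschemeι ≫ a) z (hclosed z)
  obtain ⟨x₀⟩ := (inferInstance : Nonempty I.subscheme)
  haveI : Finite ((FEt.fiber (geomPt x₀)).obj V) := FEtEq25.finite_fiberObj (geomPt x₀) V
  let d := Nat.card (FEt.fiberObj (geomPt x₀) V)
  obtain ⟨eD⟩ := nonempty_iso_of_equiv hsc ((FEt.restrict jI).obj V)
    ((FEt.restrict jJ).obj (trivialCover J.subscheme d)) (fun z => by
    refine Classical.choice ?_
    let E := (FEt.restrict jI).obj V
    let F := (FEt.restrict jJ).obj (trivialCover J.subscheme d)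
    haveI : IsFinite E.hom := E.prop.1
    haveI : Etale E.hom := E.prop.2
    haveI : IsFinite F.hom := F.prop.1
    haveI : Etale F.hom := F.prop.2
    obtain ⟨eE⟩ := nonempty_preimage_equiv E.hom z (hsc z)
    obtain ⟨eF⟩ := nonempty_preimage_equiv F.hom z (hsc z)
    obtain ⟨eT⟩ := nonempty_fiber_trivialCover J.subscheme d (geomPt z ≫ jJ)
    obtain ⟨eC⟩ := Groth.Agent.S0296.result (geomPt z ≫ jI) (geomPt x₀)
    refine ⟨eE.symm.trans (((FEtEq25.restrictFiberIso jI (geomPt z)).app V).toEquiv.trans
      ((eC.app V).toEquiv.trans ((Finite.equivFinOfCardEq rfl).trans (eT.symm.trans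
        (((FEtEq25.restrictFiberIso jJ (geomPt z)).app _).toEquiv.symm.trans eF)))))⟩)
  obtain ⟨T, ⟨eI⟩, -⟩ := Groth.Agent.S1186.result jI jJ (fun y => by
      by_cases h : ∃ z, jJ z = y
      · obtain ⟨z, rfl⟩ := h
        obtain ⟨O, hO, hzO, -⟩ := exists_isAffineOpen_mem_and_subset (X := I.subscheme)
          (x := jI z) (U := ⊤) trivial
        refine ⟨O, hO, fun z' hz' => ?_⟩
        rw [jJ.injective hz']
        exact hzO
      · obtain ⟨O, hO, -, -⟩ := exists_isAffineOpen_mem_and_subset (X := I.subscheme)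
          (x := x₀) (U := ⊤) trivial
        exact ⟨O, hO, fun z hz => absurd ⟨z, hz⟩ h⟩)
    (UnionPush13.inl I J) (UnionPush13.inr I J) (UnionPush13.isPushout_inf I J) V
    (trivialCover J.subscheme d) eD
  haveI : Surjective (I ⊓ J).subschemeι := ⟨fun x => by
    have hx : x ∈ (I ⊓ J).support := by
      rw [UnionPush13.mem_support_inf]
      by_cases h : x ∈ I.support
      · exact Or.inl h
      · right
        rw [← SetLike.mem_coe, hJ]
        exact subset_closure h
    rwa [← SetLike.mem_coe, ← range_subschemeι] at hx⟩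
  haveI := Groth.Agent.S0238.result (I ⊓ J).subschemeι
  let W := (FEt.restrict (I ⊓ J).subschemeι).objPreimage T
  refine ⟨W, ⟨?_ ≪≫ (FEt.restrict (UnionPush13.inl I J)).mapIso
    ((FEt.restrict (I ⊓ J).subschemeι).objObjPreimageIso T) ≪≫ eI⟩⟩
  exact (MorphismProperty.Over.pullbackComp (P := FEt.prop.{u}) (Q := ⊤) (UnionPush13.inl I J)
    (I ⊓ J).subschemeι I.subschemeι (inclusion_subschemeι _).symm).app W

theorem essSurj_restrict {k : Type u} [Field k] [IsSepClosed k] {Z X : Scheme.{u}}
    (a : Z ⟶ Spec (CommRingCat.of k)) [LocallyOfFiniteType a] (hdim : topologicalKrullDim Z ≤ 1)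
    (i : X ⟶ Z) [IsClosedImmersion i] [ConnectedSpace X] : (FEt.restrict i).EssSurj := by
  refine ⟨fun V => ?_⟩
  haveI : ConnectedSpace i.ker.subscheme :=
    i.toImage.homeomorph.surjective.connectedSpace i.toImage.homeomorph.continuous
  obtain ⟨W, ⟨e⟩⟩ := exists_restrict_iso a hdim i.ker ((FEt.restrict (inv i.toImage)).obj V)
  refine ⟨W, ⟨(MorphismProperty.Over.pullbackComp (P := FEt.prop.{u}) (Q := ⊤) i.toImage
    i.ker.subschemeι i i.toImage_imageι.symm).app W ≪≫ (FEt.restrict i.toImage).mapIso e ≪≫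
    ((MorphismProperty.Over.pullbackComp (P := FEt.prop.{u}) (Q := ⊤) i.toImage (inv i.toImage)
    (𝟙 X) (IsIso.hom_inv_id _).symm).app V).symm ≪≫
    MorphismProperty.Over.isoMk (asIso (pullback.fst V.hom (𝟙 X))) (by
      show pullback.fst V.hom (𝟙 X) ≫ V.hom = pullback.snd V.hom (𝟙 X)
      rw [pullback.condition, Category.comp_id])⟩⟩

end Groth.Agent.CurveConn25
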